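import Groth.Agent.PinchDesc.Zero
import Groth.Agent.S14952
import Groth.Agent.S14953
import Groth.Agent.S14954
import Groth.Agent.FlatOver.Basic
import Groth.Agent.FlatOverBC.Free
import Groth.Agent.DCohBridge.Perfect
import Groth.Agent.FinLocFreeSections.FP
import Groth.Agent.QCohBase.FinitePresentation

/-!
# Descent of flatness and finiteness along pinching squares
-/

set_option autoImplicit false
set_option backward.isDefEq.respectTransparency false
universe u

open CategoryTheory CategoryTheory.Limits AlgebraicGeometry Opposite TensorProduct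

namespace Groth.Agent.PinchDesc

variable {X Y Y' : Scheme.{u}}

theorem isFlat_iff_sections (M : X.Modules) [M.IsQuasicoherent] :
    FlatMod.IsFlat M ↔ ∀ U : X.Opens, IsAffineOpen U → Module.Flat Γ(X, U) Γ(M, U) := by
  have key : ∀ (U : X.Opens) (hU : IsAffineOpen U) (x : X) (hx : x ∈ U),
      FlatMod.IsFlatAt M x ↔
        (letI := FlatOver.germModule M x hx; Module.Flat Γ(X, U) (M.presheaf.stalk x)) := fun U hU x hx => by
    letI := FlatOver.germModule M x hx
    letI : Algebra Γ(X, U) (X.presheaf.stalk x) := (X.presheaf.germ U x hx).hom.toAlgebra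
    haveI : IsLocalization.AtPrime (X.presheaf.stalk x) (hU.primeIdealOf ⟨x, hx⟩).asIdeal :=
      hU.isLocalization_stalk ⟨x, hx⟩
    haveI : IsScalarTower Γ(X, U) (X.presheaf.stalk x) (M.presheaf.stalk x) :=
      .of_algebraMap_smul fun _ _ => rfl
    exact (Module.flat_iff_of_isLocalization (X.presheaf.stalk x)
      (hU.primeIdealOf ⟨x, hx⟩).asIdeal.primeCompl (M.presheaf.stalk x))
  refine ⟨fun h U hU => ?_, fun h x => ?_⟩
  · have hpt : ∀ (P : Ideal Γ(X, U)) [P.IsMaximal], ∃ (x : X) (hx : x ∈ U),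
        (hU.primeIdealOf ⟨x, hx⟩).asIdeal = P := fun P _ ↦ AssPts.exists_point hU P
    choose pt hpt' heq using hpt
    letI : ∀ (P : Ideal Γ(X, U)) [P.IsMaximal], Module Γ(X, U) (M.presheaf.stalk (pt P)) :=
      fun P _ ↦ FlatOver.germModule M (pt P) (hpt' P)
    haveI : ∀ (P : Ideal Γ(X, U)) [P.IsMaximal],
        IsLocalizedModule.AtPrime P (FlatOver.germₗ M (pt P) (hpt' P)) := fun P _ ↦ by
      have := FlatOver.isLocalizedModule_germₗ M hU (pt P) (hpt' P)
      simp only [heq P] at this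
      exact this
    exact Module.flat_of_isLocalized_maximal _ _ (fun P _ ↦ M.presheaf.stalk (pt P))
      (fun P _ ↦ FlatOver.germₗ M (pt P) (hpt' P))
      fun P _ ↦ (key U hU (pt P) (hpt' P)).1 (h _)
  · obtain ⟨_, ⟨U, hU, rfl⟩, hx, -⟩ :=
      X.isBasis_affineOpens.exists_subset_of_mem_open (Set.mem_univ x) isOpen_univ
    rw [key U hU x hx]
    haveI := h U hU
    letI := FlatOver.germModule M x hx
    haveI := FlatOver.isLocalizedModule_germₗ M hU x hx
    exact FlatOver.flat_of_isLocalizedModule (R := Γ(X, U)) (hU.primeIdealOf ⟨x, hx⟩).asIdeal.primeCompl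
      (FlatOver.germₗ M x hx)

theorem exists_affine_over (f : X ⟶ Y) (x : X) : ∃ (U : X.Opens) (W : Y.Opens) (_ : U ≤ f ⁻¹ᵁ W),
    IsAffineOpen U ∧ IsAffineOpen W ∧ x ∈ U := by
  obtain ⟨_, ⟨W, hW, rfl⟩, hgx, -⟩ :=
    Y.isBasis_affineOpens.exists_subset_of_mem_open (Set.mem_univ (f x)) isOpen_univ
  obtain ⟨_, ⟨U, hU, rfl⟩, hx, hle⟩ :=
    X.isBasis_affineOpens.exists_subset_of_mem_open (show x ∈ f ⁻¹ᵁ W from hgx) (f ⁻¹ᵁ W).isOpen
  exact ⟨U, W, hle, hU, hW, hx⟩

theorem isFlat_pullback' (f : X ⟶ Y) (G : Y.Modules) [G.IsQuasicoherent]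
    (h : ∀ W : Y.Opens, IsAffineOpen W → Module.Flat Γ(Y, W) Γ(G, W)) :
    FlatMod.IsFlat ((Scheme.Modules.pullback f).obj G) := fun x => by
  haveI := QCohPull.isQuasicoherent_pullback f G
  obtain ⟨U, W, e, hU, hW, hx⟩ := exists_affine_over f x
  letI := (f.appLE W U e).hom.toAlgebra
  haveI := h W hW
  obtain ⟨ε⟩ := QCohPull.nonempty_sections_pullback f G hU hW e
  haveI : Module.Flat Γ(X, U) Γ((Scheme.Modules.pullback f).obj G, U) := Module.Flat.of_linearEquiv ε.symm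
  letI := FlatOver.germModule ((Scheme.Modules.pullback f).obj G) x hx
  haveI := FlatOver.isLocalizedModule_germₗ ((Scheme.Modules.pullback f).obj G) hU x hx
  haveI : Module.Flat Γ(X, U) (((Scheme.Modules.pullback f).obj G).presheaf.stalk x) :=
    FlatOver.flat_of_isLocalizedModule (R := Γ(X, U)) (hU.primeIdealOf ⟨x, hx⟩).asIdeal.primeCompl
      (FlatOver.germₗ _ x hx)
  letI : Algebra Γ(X, U) (X.presheaf.stalk x) := (X.presheaf.germ U x hx).hom.toAlgebra
  haveI : IsLocalization.AtPrime (X.presheaf.stalk x) (hU.primeIdealOf ⟨x, hx⟩).asIdeal :=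
    hU.isLocalization_stalk ⟨x, hx⟩
  haveI : IsScalarTower Γ(X, U) (X.presheaf.stalk x) (((Scheme.Modules.pullback f).obj G).presheaf.stalk x) :=
    .of_algebraMap_smul fun _ _ => rfl
  exact (Module.flat_iff_of_isLocalization (X.presheaf.stalk x)
    (hU.primeIdealOf ⟨x, hx⟩).asIdeal.primeCompl _).2 ‹_›

theorem isFiniteType_pullback' (f : X ⟶ Y) (G : Y.Modules) [G.IsQuasicoherent]
    (h : ∀ W : Y.Opens, IsAffineOpen W → Module.Finite Γ(Y, W) Γ(G, W)) :
    SheafOfModules.IsFiniteType (R := X.ringCatSheaf) ((Scheme.Modules.pullback f).obj G) := by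
  haveI := QCohPull.isQuasicoherent_pullback f G
  refine QCohBase.isFiniteType_of_finite _ fun x => ?_
  obtain ⟨U, W, e, hU, hW, hx⟩ := exists_affine_over f x
  letI := (f.appLE W U e).hom.toAlgebra
  haveI := h W hW
  obtain ⟨ε⟩ := QCohPull.nonempty_sections_pullback f G hU hW e
  exact ⟨U, hU, hx, Module.Finite.equiv ε⟩

theorem isFinLocFree_of_sections (M : X.Modules) [M.IsQuasicoherent]
    (h1 : ∀ U : X.Opens, IsAffineOpen U → Module.FinitePresentation Γ(X, U) Γ(M, U))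
    (h2 : FlatMod.IsFlat M) : FlatMod.IsFinLocFree M := fun x => by
  refine FlatOverBC.exists_iso_freeMod M (QCohBase.isFinitePresentation_of_affine M fun y => ?_) x (h2 x)
  obtain ⟨_, ⟨U, hU, rfl⟩, hy, -⟩ :=
    X.isBasis_affineOpens.exists_subset_of_mem_open (Set.mem_univ y) isOpen_univ
  exact ⟨U, hU, hy, h1 U hU⟩

theorem isFinLocFree_pullback' (f : X ⟶ Y) (G : Y.Modules) [G.IsQuasicoherent]
    (h1 : ∀ W : Y.Opens, IsAffineOpen W → Module.FinitePresentation Γ(Y, W) Γ(G, W))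
    (h2 : ∀ W : Y.Opens, IsAffineOpen W → Module.Flat Γ(Y, W) Γ(G, W)) :
    FlatMod.IsFinLocFree ((Scheme.Modules.pullback f).obj G) := fun x => by
  haveI := QCohPull.isQuasicoherent_pullback f G
  refine FlatOverBC.exists_iso_freeMod _ (QCohBase.isFinitePresentation_of_affine _ fun y => ?_) x
    (isFlat_pullback' f G h2 x)
  obtain ⟨U, W, e, hU, hW, hy⟩ := exists_affine_over f y
  letI := (f.appLE W U e).hom.toAlgebra
  haveI := h1 W hW
  obtain ⟨ε⟩ := QCohPull.nonempty_sections_pullback f G hU hW e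
  exact ⟨U, hU, hy, Module.FinitePresentation.of_equiv ε⟩

section Square

variable (f : X ⟶ Y) (u : Y' ⟶ Y) [IsAffineHom f] [IsClosedImmersion u]
  (hM : ∀ V ∈ Y.affineOpens,
      RingHom.ker (f.app V).hom ⊓ RingHom.ker (u.app V).hom = ⊥ ∧
      ∀ a ∈ Ideal.map (f.app V).hom (RingHom.ker (u.app V).hom),
        ∃ i ∈ RingHom.ker (u.app V).hom, (f.app V).hom i = a)
  (G : Y.Modules) [G.IsQuasicoherent] (V : Y.Opens) (hV : IsAffineOpen V)

include hM hV in
/-- A property descending along fibre squares descends to the sections on an affine open. -/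
theorem sections_of_descent
    (P : ∀ (A : Type u) [CommRing A] (M : Type u) [AddCommGroup M] [Module A M], Prop)
    (hP : ∀ (B' B A' A : Type u) [CommRing B'] [CommRing B] [CommRing A'] [CommRing A]
      [Algebra B' B] [Algebra B' A'] [Algebra B A] [Algebra A' A] [Algebra B' A]
      [IsScalarTower B' B A] [IsScalarTower B' A' A] (_ : EtMil.IsFibreSquare B' B A' A)
      (L : Type u) [AddCommGroup L] [Module B' L], P B (B ⊗[B'] L) → P A' (A' ⊗[B'] L) → P B' L)
    (hu : letI := (u.appLE V (u ⁻¹ᵁ V) le_rfl).hom.toAlgebra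
      P Γ(Y', u ⁻¹ᵁ V) (Γ(Y', u ⁻¹ᵁ V) ⊗[Γ(Y, V)] Γ(G, V)))
    (hf : letI := (f.appLE V (f ⁻¹ᵁ V) le_rfl).hom.toAlgebra
      P Γ(X, f ⁻¹ᵁ V) (Γ(X, f ⁻¹ᵁ V) ⊗[Γ(Y, V)] Γ(G, V))) :
    P Γ(Y, V) Γ(G, V) := by
  letI := (u.appLE V (u ⁻¹ᵁ V) le_rfl).hom.toAlgebra
  letI := (f.appLE V (f ⁻¹ᵁ V) le_rfl).hom.toAlgebra
  let φ := algebraMap Γ(Y, V) Γ(X, f ⁻¹ᵁ V)
  let ψ := algebraMap Γ(Y, V) Γ(Y', u ⁻¹ᵁ V)
  have eu : ψ = (u.app V).hom := by
    simp only [ψ, RingHom.algebraMap_toAlgebra, Scheme.Hom.app_eq_appLE]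
  have ef : φ = (f.app V).hom := by
    simp only [φ, RingHom.algebraMap_toAlgebra, Scheme.Hom.app_eq_appLE]
  obtain ⟨hker, himg⟩ := hM V hV
  rw [← eu, ← ef] at hker himg
  have hψ : Function.Surjective ψ := by rw [eu]; exact u.app_surjective V hV
  let J : Ideal Γ(X, f ⁻¹ᵁ V) := Ideal.map φ (RingHom.ker ψ)
  let χ : Γ(Y', u ⁻¹ᵁ V) →+* Γ(X, f ⁻¹ᵁ V) ⧸ J := RingHom.liftOfSurjective ψ hψ
    ⟨(Ideal.Quotient.mk J).comp φ, fun i hi => by
      rw [RingHom.mem_ker, RingHom.comp_apply, Ideal.Quotient.eq_zero_iff_mem]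
      exact Ideal.mem_map_of_mem _ hi⟩
  have hχ : ∀ a, χ (ψ a) = Ideal.Quotient.mk J (φ a) := fun a => RingHom.liftOfRightInverse_comp_apply _ _ _ _ a
  letI : Algebra Γ(Y', u ⁻¹ᵁ V) (Γ(X, f ⁻¹ᵁ V) ⧸ J) := χ.toAlgebra
  haveI : IsScalarTower Γ(Y, V) Γ(Y', u ⁻¹ᵁ V) (Γ(X, f ⁻¹ᵁ V) ⧸ J) :=
    .of_algebraMap_eq fun a => (hχ a).symm
  refine hP Γ(Y, V) Γ(Y', u ⁻¹ᵁ V) Γ(X, f ⁻¹ᵁ V) (Γ(X, f ⁻¹ᵁ V) ⧸ J) ⟨Ideal.Quotient.mk_surjective, ?_⟩ _ hu hf
  intro c b hcb
  obtain ⟨a₀, rfl⟩ := hψ c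
  have h1 : φ a₀ - b ∈ J := Ideal.Quotient.eq.1 ((hχ a₀).symm.trans hcb)
  obtain ⟨i, hi, hib⟩ := himg _ h1
  refine ⟨a₀ - i, ⟨?_, ?_⟩, fun a ⟨ha1, ha2⟩ => ?_⟩
  · show ψ (a₀ - i) = ψ a₀
    rw [map_sub, RingHom.mem_ker.1 hi, sub_zero]
  · show φ (a₀ - i) = b
    rw [map_sub, hib, sub_sub_cancel]
  · have h2 : a - (a₀ - i) ∈ RingHom.ker φ ⊓ RingHom.ker ψ := by
      refine ⟨?_, ?_⟩
      · show φ (a - (a₀ - i)) = 0
        rw [map_sub, show φ a = b from ha2, map_sub, hib, sub_sub_cancel, sub_self]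
      · show ψ (a - (a₀ - i)) = 0
        rw [map_sub, show ψ a = ψ a₀ from ha1, map_sub, RingHom.mem_ker.1 hi, sub_zero, sub_self]
    rw [hker] at h2
    exact sub_eq_zero.1 h2

include hM

theorem isFlat_iff_pair : FlatMod.IsFlat G ↔
    FlatMod.IsFlat ((Scheme.Modules.pullback u).obj G) ∧ FlatMod.IsFlat ((Scheme.Modules.pullback f).obj G) := by
  haveI := QCohPull.isQuasicoherent_pullback u G
  haveI := QCohPull.isQuasicoherent_pullback f G
  refine ⟨fun h => ⟨isFlat_pullback' u G ((isFlat_iff_sections G).1 h),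
    isFlat_pullback' f G ((isFlat_iff_sections G).1 h)⟩, fun ⟨hu, hf⟩ => (isFlat_iff_sections G).2 fun W hW => ?_⟩
  refine sections_of_descent f u hM G W hW (fun A _ M _ _ => Module.Flat A M)
    (fun B' B A' A _ _ _ _ _ _ _ _ _ _ _ hsq L _ _ h1 h2 =>
      haveI := h1; haveI := h2; Groth.Agent.S14952.result B' B A' A hsq L) ?_ ?_
  · haveI := (isFlat_iff_sections _).1 hu (u ⁻¹ᵁ W) (hW.preimage u)
    exact Module.Flat.of_linearEquiv (QCohPull.nonempty_sections_pullback u G (hW.preimage u) hW le_rfl).some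
  · haveI := (isFlat_iff_sections _).1 hf (f ⁻¹ᵁ W) (hW.preimage f)
    exact Module.Flat.of_linearEquiv (QCohPull.nonempty_sections_pullback f G (hW.preimage f) hW le_rfl).some

theorem isFiniteType_iff_pair : SheafOfModules.IsFiniteType (R := Y.ringCatSheaf) G ↔
    SheafOfModules.IsFiniteType (R := Y'.ringCatSheaf) ((Scheme.Modules.pullback u).obj G) ∧
      SheafOfModules.IsFiniteType (R := X.ringCatSheaf) ((Scheme.Modules.pullback f).obj G) := by
  haveI := QCohPull.isQuasicoherent_pullback u G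
  haveI := QCohPull.isQuasicoherent_pullback f G
  refine ⟨fun h => ⟨isFiniteType_pullback' u G fun W hW => QCohBase.finite_sections G h hW,
    isFiniteType_pullback' f G fun W hW => QCohBase.finite_sections G h hW⟩,
    fun ⟨hu, hf⟩ => QCohBase.isFiniteType_of_finite G fun y => ?_⟩
  obtain ⟨_, ⟨W, hW, rfl⟩, hy, -⟩ :=
    Y.isBasis_affineOpens.exists_subset_of_mem_open (Set.mem_univ y) isOpen_univ
  refine ⟨W, hW, hy, sections_of_descent f u hM G W hW (fun A _ M _ _ => Module.Finite A M)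
    (fun B' B A' A _ _ _ _ _ _ _ _ _ _ _ hsq L _ _ h1 h2 =>
      haveI := h1; haveI := h2; Groth.Agent.S14953.result B' B A' A hsq L) ?_ ?_⟩
  · haveI := QCohBase.finite_sections _ hu (hW.preimage u)
    exact Module.Finite.equiv (QCohPull.nonempty_sections_pullback u G (hW.preimage u) hW le_rfl).some.symm
  · haveI := QCohBase.finite_sections _ hf (hW.preimage f)
    exact Module.Finite.equiv (QCohPull.nonempty_sections_pullback f G (hW.preimage f) hW le_rfl).some.symm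

theorem isFinLocFree_iff_pair : FlatMod.IsFinLocFree G ↔
    FlatMod.IsFinLocFree ((Scheme.Modules.pullback u).obj G) ∧
      FlatMod.IsFinLocFree ((Scheme.Modules.pullback f).obj G) := by
  haveI := QCohPull.isQuasicoherent_pullback u G
  haveI := QCohPull.isQuasicoherent_pullback f G
  refine ⟨fun h => ?_, fun ⟨hu, hf⟩ => ?_⟩
  · have h1 := fun W hW => FinLocFreeSections.finitePresentation_sections G (TensorMod.isFP_of_isFinLocFree h)
      (U := W) hW
    have h2 := (isFlat_iff_sections G).1 (DCohBridge.isFlat_of_finLocFree h)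
    exact ⟨isFinLocFree_pullback' u G h1 h2, isFinLocFree_pullback' f G h1 h2⟩
  have hflat := (isFlat_iff_pair f u hM G).2
    ⟨DCohBridge.isFlat_of_finLocFree hu, DCohBridge.isFlat_of_finLocFree hf⟩
  refine isFinLocFree_of_sections G (fun W hW => ?_) hflat
  refine sections_of_descent f u hM G W hW (fun A _ M _ _ => Module.Flat A M ∧ Module.FinitePresentation A M)
    (fun B' B A' A _ _ _ _ _ _ _ _ _ _ _ hsq L _ _ h1 h2 =>
      haveI := h1.1; haveI := h1.2; haveI := h2.1; haveI := h2.2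
      ⟨Groth.Agent.S14952.result B' B A' A hsq L, Groth.Agent.S14954.result B' B A' A hsq L⟩) ?_ ?_ |>.2
  · haveI := (isFlat_iff_sections _).1 (DCohBridge.isFlat_of_finLocFree hu) (u ⁻¹ᵁ W) (hW.preimage u)
    haveI := FinLocFreeSections.finitePresentation_sections _ (TensorMod.isFP_of_isFinLocFree hu) (hW.preimage u)
    letI := (u.appLE W (u ⁻¹ᵁ W) le_rfl).hom.toAlgebra
    obtain ⟨ε⟩ := QCohPull.nonempty_sections_pullback u G (hW.preimage u) hW le_rfl
    exact ⟨Module.Flat.of_linearEquiv ε, Module.FinitePresentation.of_equiv ε.symm⟩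
  · haveI := (isFlat_iff_sections _).1 (DCohBridge.isFlat_of_finLocFree hf) (f ⁻¹ᵁ W) (hW.preimage f)
    haveI := FinLocFreeSections.finitePresentation_sections _ (TensorMod.isFP_of_isFinLocFree hf) (hW.preimage f)
    letI := (f.appLE W (f ⁻¹ᵁ W) le_rfl).hom.toAlgebra
    obtain ⟨ε⟩ := QCohPull.nonempty_sections_pullback f G (hW.preimage f) hW le_rfl
    exact ⟨Module.Flat.of_linearEquiv ε, Module.FinitePresentation.of_equiv ε.symm⟩

end Square

end Groth.Agent.PinchDesc
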