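import Groth.Agent.QCohPull.Affine
import Groth.Agent.QCohBase.Noetherian

/-!
# Modules on a pinched scheme killed by both pullbacks
-/

set_option autoImplicit false
universe u

open CategoryTheory CategoryTheory.Limits AlgebraicGeometry Opposite TensorProduct

namespace Groth.Agent.PinchDesc

/-- The algebraic form: if `M ⊗ B = 0` and `M ⊗ C = 0` in a pinching, then `M = 0`. -/
theorem subsingleton_of_tensor {A B C : Type u} [CommRing A] [CommRing B] [CommRing C] [Algebra A B] [Algebra A C]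
    (hC : Function.Surjective (algebraMap A C))
    (hker : RingHom.ker (algebraMap A B) ⊓ RingHom.ker (algebraMap A C) = ⊥)
    (himg : ∀ b ∈ Ideal.map (algebraMap A B) (RingHom.ker (algebraMap A C)),
      ∃ i ∈ RingHom.ker (algebraMap A C), algebraMap A B i = b)
    (M : Type u) [AddCommGroup M] [Module A M] (hB : Subsingleton (B ⊗[A] M)) (hC0 : Subsingleton (C ⊗[A] M)) :
    Subsingleton M := by
  classical
  let I : Ideal A := RingHom.ker (algebraMap A C)
  have huniq : ∀ {i j : A}, i ∈ I → j ∈ I → algebraMap A B i = algebraMap A B j → i = j := by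
    intro i j hi hj h
    have h1 : i - j ∈ RingHom.ker (algebraMap A B) ⊓ RingHom.ker (algebraMap A C) :=
      ⟨by simp [RingHom.mem_ker, h], I.sub_mem hi hj⟩
    rw [hker] at h1
    exact sub_eq_zero.1 h1
  -- `I` kills `M`
  have hkill : ∀ i ∈ I, ∀ m : M, i • m = 0 := by
    intro i hi m
    have hmem : ∀ b : B, b * algebraMap A B i ∈ Ideal.map (algebraMap A B) I := fun b =>
      Ideal.mul_mem_left _ _ (Ideal.mem_map_of_mem _ hi)
    choose j hj hjb using fun b => himg _ (hmem b)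
    have hadd : ∀ b b', j (b + b') = j b + j b' := fun b b' =>
      huniq (hj _) (I.add_mem (hj b) (hj b')) (by rw [map_add, hjb, hjb, hjb, add_mul])
    have hsmul : ∀ (a : A) b, j (a • b) = a * j b := fun a b =>
      huniq (hj _) (I.mul_mem_left a (hj b)) (by rw [map_mul, hjb, hjb, Algebra.smul_def, mul_assoc])
    let bil : B →ₗ[A] M →ₗ[A] M := LinearMap.mk₂ A (fun b m => j b • m)
      (fun b b' m => by rw [hadd, add_smul]) (fun a b m => by rw [hsmul, mul_smul])
      (fun b m m' => smul_add _ _ _) (fun a b m => smul_comm _ _ _)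
    have h1 : j 1 = i := huniq (hj _) hi (by rw [hjb, one_mul])
    have h2 : TensorProduct.lift bil ((1 : B) ⊗ₜ[A] m) = j 1 • m := TensorProduct.lift.tmul _ _
    rw [Subsingleton.elim ((1 : B) ⊗ₜ[A] m) 0, map_zero, h1] at h2
    exact h2.symm
  -- hence `M` is a `C`-module
  refine subsingleton_of_forall_eq 0 fun m => ?_
  choose l hl using hC
  have hdiff : ∀ {a a' : A} (m : M), algebraMap A C a = algebraMap A C a' → a • m = a' • m := fun m h => by
    rw [← sub_eq_zero, ← sub_smul]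
    exact hkill _ (by simp [I, RingHom.mem_ker, h]) m
  let bil : C →ₗ[A] M →ₗ[A] M := LinearMap.mk₂ A (fun c m => l c • m)
    (fun c c' m => by rw [← add_smul]; exact hdiff m (by simp [hl]))
    (fun a c m => by rw [smul_smul]; exact hdiff m (by simp [hl, Algebra.smul_def]))
    (fun c m m' => smul_add _ _ _) (fun a c m => smul_comm _ _ _)
  have h2 : TensorProduct.lift bil ((1 : C) ⊗ₜ[A] m) = l 1 • m := TensorProduct.lift.tmul _ _
  rw [Subsingleton.elim ((1 : C) ⊗ₜ[A] m) 0, map_zero, hdiff (a := l 1) (a' := 1) m (by simp [hl]), one_smul] at h2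
  exact h2.symm

/-- A quasi-coherent module killed by both pullbacks of a pinching square vanishes. -/
theorem isZero_of_isZero_pullback_pair {X Y Y' : Scheme.{u}} (f : X ⟶ Y) (u : Y' ⟶ Y) [IsAffineHom f]
    [IsClosedImmersion u]
    (hM : ∀ V ∈ Y.affineOpens,
      RingHom.ker (f.app V).hom ⊓ RingHom.ker (u.app V).hom = ⊥ ∧
      ∀ a ∈ Ideal.map (f.app V).hom (RingHom.ker (u.app V).hom),
        ∃ i ∈ RingHom.ker (u.app V).hom, (f.app V).hom i = a)
    (G : Y.Modules) [G.IsQuasicoherent]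
    (h1 : IsZero ((Scheme.Modules.pullback u).obj G)) (h2 : IsZero ((Scheme.Modules.pullback f).obj G)) :
    IsZero G := by
  refine QCohBase.isZero_of_sections (fun V : Y.affineOpens => V.1) (fun V => V.2) (fun x => ?_) fun V => ?_
  · obtain ⟨_, ⟨W, hW, rfl⟩, hx, -⟩ :=
      Y.isBasis_affineOpens.exists_subset_of_mem_open (Set.mem_univ x) isOpen_univ
    exact ⟨⟨W, hW⟩, hx⟩
  have hz : ∀ {T : Scheme.{u}} (N : T.Modules), IsZero N → ∀ U : T.Opens, Subsingleton Γ(N, U) := fun N hN U =>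
    subsingleton_of_forall_eq 0 fun s => congrArg (fun φ : N ⟶ N => φ.app U s) (hN.eq_of_src (𝟙 N) 0)
  obtain ⟨eu⟩ := QCohPull.nonempty_sections_pullback u G (V.2.preimage u) V.2 le_rfl
  obtain ⟨ef⟩ := QCohPull.nonempty_sections_pullback f G (V.2.preimage f) V.2 le_rfl
  letI := (u.appLE V (u ⁻¹ᵁ V) le_rfl).hom.toAlgebra
  letI := (f.appLE V (f ⁻¹ᵁ V) le_rfl).hom.toAlgebra
  obtain ⟨hker, himg⟩ := hM V V.2
  haveI := hz _ h1 (u ⁻¹ᵁ V)
  haveI := hz _ h2 (f ⁻¹ᵁ V)
  have eu' : algebraMap Γ(Y, V) Γ(Y', u ⁻¹ᵁ V) = (u.app V).hom := by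
    rw [RingHom.algebraMap_toAlgebra, Scheme.Hom.app_eq_appLE]
  have ef' : algebraMap Γ(Y, V) Γ(X, f ⁻¹ᵁ V) = (f.app V).hom := by
    rw [RingHom.algebraMap_toAlgebra, Scheme.Hom.app_eq_appLE]
  refine subsingleton_of_tensor (B := Γ(X, f ⁻¹ᵁ V)) (C := Γ(Y', u ⁻¹ᵁ V)) ?_ ?_ ?_ Γ(G, V)
    ef.toEquiv.subsingleton eu.toEquiv.subsingleton
  · rw [eu']; exact u.app_surjective V V.2
  · rw [eu', ef']; exact hker
  · rw [eu', ef']; exact himg

end Groth.Agent.PinchDesc
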